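import Cfsg.Agent.H613.KKL.Defs

/-!
# S4546, classical groups: lifting the configuration from `X ⧸ Z` to `X`, `|Z| ≤ 2` (helper503)

`lift` : `Z` central in the finite group `X` with at most two elements, `Cfg0 D x` in `X ⧸ Z`: the preimage `D₀` of `D` is
elementary abelian, there are lifts `x₀` of `x` (commuting with `D₀`) and `y` (normalising `D₀`, inducing a nontrivial
automorphism of order a power of 7), and elementary abelian subgroups commuting with `x₀` have order at most 16.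
-/

set_option autoImplicit false

namespace Cfsg.Agent.H503.KKL

open Cfsg.Agent.H613.KKL

section Lift

variable {X : Type*} [Group X] [Finite X] {Z : Subgroup X} [Z.Normal]

theorem exists_notMem_of_card {G : Type*} [Group G] {D : Subgroup G} (hD : Nat.card D = 8) (s : Finset G)
    (hs : s.card < 8) : ∃ d ∈ D, d ∉ s := by
  by_contra hcon
  push Not at hcon
  have h1 : (D : Set G) ⊆ (s : Set G) := fun d hd => hcon d hd
  have h2 := Set.ncard_le_ncard h1 s.finite_toSet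
  rw [Set.ncard_coe_finset] at h2
  have h3 : (D : Set G).ncard = 8 := by
    rw [← Nat.card_coe_set_eq]
    exact hD
  omega

theorem comm_of_sq {G : Type*} [Group G] {a b : G} (ha : a * a = 1) (hb : b * b = 1) (hab : a * b * (a * b) = 1) :
    a * b = b * a := by
  have h1 : a * b = (a * b)⁻¹ := eq_inv_of_mul_eq_one_left hab
  rw [h1, mul_inv_rev, inv_eq_of_mul_eq_one_left ha, inv_eq_of_mul_eq_one_left hb]

theorem lift (hZ : Z ≤ Subgroup.center X) (z₀ : X) (hz : ∀ z ∈ Z, z = 1 ∨ z = z₀) {D : Subgroup (X ⧸ Z)} {x : X ⧸ Z}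
    (hc : Cfg0 D x) :
    ∃ (D₀ : Subgroup X) (x₀ y : X) (m : ℕ), (∀ d : X, d ∈ D₀ ↔ (d : X ⧸ Z) ∈ D) ∧
      (∀ d ∈ D₀, d * d = 1) ∧ (∀ d ∈ D₀, ∀ e ∈ D₀, d * e = e * d) ∧
      ((x₀ : X ⧸ Z) = x) ∧ (∀ d ∈ D₀, d * x₀ = x₀ * d) ∧
      (∀ d, y * d * y⁻¹ ∈ D₀ ↔ d ∈ D₀) ∧ (y ^ 7 ^ m ∈ Z) ∧ (∃ d ∈ D₀, y * d * y⁻¹ ≠ d) ∧
      (∀ E : Subgroup X, (∀ e ∈ E, e * e = 1) → (∀ e ∈ E, e * x₀ = x₀ * e) → Nat.card E ≤ 16) := by
  classical
  have hzc : ∀ z ∈ Z, ∀ g : X, z * g = g * z := fun z hzz g => ((Subgroup.mem_center_iff.1 (hZ hzz)) g).symm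
  have hz2 : ∀ z ∈ Z, z * z = 1 := by
    intro z hzz
    rcases hz z hzz with h | h
    · rw [h, one_mul]
    · rcases hz _ (mul_mem hzz hzz) with h1 | h1
      · exact h1
      · have : z * z = z := by rw [h1, h]
        have h3 : z = 1 := mul_eq_left.1 this
        rw [h3, one_mul]
  have hmk : ∀ g : X, (g : X ⧸ Z) = 1 ↔ g ∈ Z := fun g => QuotientGroup.eq_one_iff g
  have hmk2 : ∀ g g' : X, (g : X ⧸ Z) = g' → ∃ z ∈ Z, g' = g * z := by
    intro g g' h
    exact ⟨g⁻¹ * g', QuotientGroup.eq.1 h, (mul_inv_cancel_left g g').symm⟩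
  obtain ⟨yb, hy⟩ := hc.seven
  obtain ⟨y, rfl⟩ := QuotientGroup.mk_surjective yb
  have hDinv : ∀ d ∈ D, d * d = 1 := hc.e8.inv
  set D₀ : Subgroup X := D.comap (QuotientGroup.mk' Z) with hD₀
  have hmem : ∀ d : X, d ∈ D₀ ↔ (d : X ⧸ Z) ∈ D := fun d => Iff.rfl
  have hsqZ : ∀ d ∈ D₀, d * d ∈ Z := by
    intro d hd
    rw [← hmk, QuotientGroup.mk_mul]
    exact hDinv _ hd
  -- squares
  have hsq : ∀ d ∈ D₀, d * d = 1 := by
    by_contra hcon
    push Not at hcon
    obtain ⟨d₁, hd₁, hne⟩ := hcon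
    have h1 : d₁ * d₁ = z₀ := (hz _ (hsqZ d₁ hd₁)).resolve_left hne
    have hz₀ : z₀ ∈ Z := by rw [← h1]; exact hsqZ d₁ hd₁
    have hz₀1 : z₀ ≠ 1 := by rw [← h1]; exact hne
    have hd₁Z : d₁ ∉ Z := fun h => hne (hz2 _ h)
    -- all the squares
    have hall : ∀ d ∈ D₀, d ∉ Z → d * d = z₀ := by
      intro d hd hdZ
      obtain ⟨k, hk⟩ := hy.trans (d₁ : X ⧸ Z) hd₁ (fun h => hd₁Z ((hmk _).1 h)) (d : X ⧸ Z) hd
        (fun h => hdZ ((hmk _).1 h))
      have h2 : ((y ^ k * d₁ * (y ^ k)⁻¹ : X) : X ⧸ Z) = d := hk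
      obtain ⟨z, hzz, hzd⟩ := hmk2 _ _ h2
      have h3 : d * d = y ^ k * (d₁ * d₁) * (y ^ k)⁻¹ * (z * z) := by
        rw [hzd]
        calc y ^ k * d₁ * (y ^ k)⁻¹ * z * (y ^ k * d₁ * (y ^ k)⁻¹ * z)
            = y ^ k * d₁ * (y ^ k)⁻¹ * (z * (y ^ k * d₁ * (y ^ k)⁻¹)) * z := by group
          _ = y ^ k * d₁ * (y ^ k)⁻¹ * (y ^ k * d₁ * (y ^ k)⁻¹ * z) * z := by rw [hzc z hzz]
          _ = _ := by group
      rw [h3, h1, hz2 z hzz, mul_one, ← hzc z₀ hz₀, mul_inv_cancel_right]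
    -- anticommuting
    have hanti : ∀ a ∈ D₀, ∀ b ∈ D₀, a ∉ Z → b ∉ Z → a * b ∉ Z → b * a = a * b * z₀ := by
      intro a ha b hb haZ hbZ habZ
      have h2 := hall a ha haZ
      have h3 := hall b hb hbZ
      have h4 := hall _ (mul_mem ha hb) habZ
      have h5 : z₀ * z₀ = 1 := hz2 z₀ hz₀
      -- `a b a b = z₀`, `a a = z₀`, so `b a b = a`
      have h6 : b * a * b = a := by
        have : a * (b * a * b) = a * a := by
          calc a * (b * a * b) = a * b * (a * b) := by group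
            _ = a * a := by rw [h4, h2]
        exact mul_left_cancel this
      calc b * a = b * a * (b * b * z₀) := by rw [h3, h5, mul_one]
        _ = (b * a * b) * b * z₀ := by group
        _ = a * b * z₀ := by rw [h6]
    -- three independent elements
    obtain ⟨a', ha', ha1⟩ := exists_notMem_of_card hc.e8.card {1} (by simp)
    obtain ⟨b', hb', hb1⟩ := exists_notMem_of_card hc.e8.card {1, a'} (lt_of_le_of_lt Finset.card_le_two (by norm_num))
    obtain ⟨c', hc', hc1⟩ := exists_notMem_of_card hc.e8.card {1, a', b', a' * b'}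
      (lt_of_le_of_lt Finset.card_le_four (by norm_num))
    simp only [Finset.mem_singleton, Finset.mem_insert, not_or] at ha1 hb1 hc1
    obtain ⟨a, rfl⟩ := QuotientGroup.mk_surjective a'
    obtain ⟨b, rfl⟩ := QuotientGroup.mk_surjective b'
    obtain ⟨c, rfl⟩ := QuotientGroup.mk_surjective c'
    have hinv : ∀ d ∈ D, d⁻¹ = d := fun d hd => inv_eq_of_mul_eq_one_left (hDinv d hd)
    have n1 : a ∉ Z := fun h => ha1 ((hmk _).2 h)
    have n2 : b ∉ Z := fun h => hb1.1 ((hmk _).2 h)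
    have n3 : c ∉ Z := fun h => hc1.1 ((hmk _).2 h)
    have hmul : ∀ d ∈ D, ∀ e ∈ D, d * e = 1 → e = d := by
      intro d hd e _ h
      rw [← hinv d hd]
      exact (inv_eq_of_mul_eq_one_right h).symm
    have n4 : a * b ∉ Z := by
      intro h
      have h2 := (hmk _).2 h
      rw [QuotientGroup.mk_mul] at h2
      exact hb1.2 (hmul _ ha' _ hb' h2)
    have n5 : a * c ∉ Z := by
      intro h
      have h2 := (hmk _).2 h
      rw [QuotientGroup.mk_mul] at h2
      exact hc1.2.1 (hmul _ ha' _ hc' h2)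
    have n6 : b * c ∉ Z := by
      intro h
      have h2 := (hmk _).2 h
      rw [QuotientGroup.mk_mul] at h2
      exact hc1.2.2.1 (hmul _ hb' _ hc' h2)
    have n7 : a * b * c ∉ Z := by
      intro h
      have h2 := (hmk _).2 h
      rw [QuotientGroup.mk_mul, QuotientGroup.mk_mul] at h2
      exact hc1.2.2.2 (hmul _ (mul_mem ha' hb') _ hc' h2)
    have e1 := hanti a ha' c hc' n1 n3 n5
    have e2 := hanti b hb' c hc' n2 n3 n6
    have e3 := hanti (a * b) (mul_mem ha' hb') c hc' n4 n3 n7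
    have e4 : c * (a * b) = a * b * c := by
      calc c * (a * b) = (c * a) * b := by group
        _ = a * (c * (z₀ * b)) := by rw [e1]; group
        _ = a * (c * b * z₀) := by rw [hzc z₀ hz₀, mul_assoc c]
        _ = a * b * c * (z₀ * z₀) := by rw [e2]; group
        _ = a * b * c := by rw [hz2 z₀ hz₀, mul_one]
    rw [e3] at e4
    exact hz₀1 (mul_eq_left.1 e4)
  have hcomm : ∀ d ∈ D₀, ∀ e ∈ D₀, d * e = e * d := fun d hd e he =>
    comm_of_sq (hsq d hd) (hsq e he) (hsq _ (mul_mem hd he))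
  -- `x₀`
  obtain ⟨x₁, rfl⟩ := QuotientGroup.mk_surjective x
  obtain ⟨k, hk⟩ := hc.odd
  set o := orderOf (x₁ : X ⧸ Z) with ho
  have hx2 : ∀ d ∈ D₀, d * (x₁ * x₁) = x₁ * x₁ * d := by
    intro d hd
    have h1 : ((d * x₁ : X) : X ⧸ Z) = ((x₁ * d : X) : X ⧸ Z) := hc.comm _ hd
    obtain ⟨z, hzz, h2⟩ := hmk2 _ _ h1
    calc d * (x₁ * x₁) = d * x₁ * x₁ := (mul_assoc _ _ _).symm
      _ = (x₁ * d * z⁻¹) * x₁ := by rw [h2]; group
      _ = x₁ * d * (z⁻¹ * x₁) := mul_assoc _ _ _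
      _ = x₁ * (d * x₁) * z⁻¹ := by rw [hzc _ (inv_mem hzz)]; group
      _ = x₁ * (x₁ * d * z⁻¹) * z⁻¹ := by rw [h2]; group
      _ = x₁ * x₁ * d * (z * z)⁻¹ := by group
      _ = x₁ * x₁ * d := by rw [hz2 z hzz, inv_one, mul_one]
  have hx₀ : ∀ d ∈ D₀, d * (x₁ ^ (o + 1)) = x₁ ^ (o + 1) * d := by
    intro d hd
    have h1 : x₁ ^ (o + 1) = (x₁ * x₁) ^ (k + 1) := by
      rw [hk, ← pow_two, ← pow_mul]
      congr 1
    rw [h1]
    exact (Commute.pow_right (show Commute d (x₁ * x₁) from hx2 d hd) _)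
  have hx₀mk : ((x₁ ^ (o + 1) : X) : X ⧸ Z) = x₁ := by
    rw [QuotientGroup.mk_pow, pow_succ, ho, pow_orderOf_eq_one, one_mul]
  obtain ⟨m, hm⟩ := hy.seven
  refine ⟨D₀, x₁ ^ (o + 1), y, m, hmem, hsq, hcomm, hx₀mk, hx₀, ?_, ?_, ?_, ?_⟩
  · intro d
    exact hy.norm (d : X ⧸ Z)
  · rw [← hmk, QuotientGroup.mk_pow, ← hm, pow_orderOf_eq_one]
  · -- a moved element
    by_contra hcon
    push Not at hcon
    obtain ⟨a', ha', ha1⟩ := exists_notMem_of_card hc.e8.card {1} (by simp)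
    obtain ⟨b', hb', hb1⟩ := exists_notMem_of_card hc.e8.card {1, a'} (lt_of_le_of_lt Finset.card_le_two (by norm_num))
    simp only [Finset.mem_singleton, Finset.mem_insert, not_or] at ha1 hb1
    obtain ⟨j, hj⟩ := hy.trans a' ha' ha1 b' hb' hb1.1
    obtain ⟨a, rfl⟩ := QuotientGroup.mk_surjective a'
    have h1 : ∀ j : ℕ, y ^ j * a * (y ^ j)⁻¹ = a := by
      intro j
      induction j with
      | zero => simp
      | succ j ih =>
        have h2 := hcon a ha'
        calc y ^ (j + 1) * a * (y ^ (j + 1))⁻¹ = y ^ j * (y * a * y⁻¹) * (y ^ j)⁻¹ := by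
              rw [pow_succ]; group
          _ = a := by rw [h2, ih]
    have h2 : ((y ^ j * a * (y ^ j)⁻¹ : X) : X ⧸ Z) = b' := hj
    rw [h1] at h2
    exact hb1.2 h2.symm
  · intro E hE hEx
    let f : E →* X ⧸ Z := (QuotientGroup.mk' Z).comp E.subtype
    have h1 : Nat.card E = Nat.card f.range * Nat.card f.ker := by
      rw [Subgroup.card_eq_card_quotient_mul_card_subgroup f.ker,
        Nat.card_congr (QuotientGroup.quotientKerEquivRange f).toEquiv]
    have h2 : Nat.card f.ker ≤ 2 := by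
      have h3 : ∀ e : f.ker, ((e : E) : X) = 1 ∨ ((e : E) : X) = z₀ := by
        intro e
        exact hz _ ((hmk _).1 e.2)
      have h4 : Function.Injective fun e : f.ker => decide (((e : E) : X) = 1) := by
        intro e e' h
        have h5 : (((e : E) : X) = 1 ↔ ((e' : E) : X) = 1) := by simpa using h
        apply Subtype.ext
        apply Subtype.ext
        rcases h3 e with h6 | h6
        · rw [h6, h5.1 h6]
        · rcases h3 e' with h7 | h7
          · rw [h7, h5.2 h7]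
          · rw [h6, h7]
      have h5 := Nat.card_le_card_of_injective _ h4
      rwa [Nat.card_eq_fintype_card (α := Bool), Fintype.card_bool] at h5
    have h3 : Nat.card f.range ≤ 8 := by
      have h4 : IsPGroup 2 f.range := by
        rintro ⟨q, e, rfl⟩
        refine ⟨1, ?_⟩
        apply Subtype.ext
        show (f e) ^ 2 ^ 1 = 1
        rw [pow_one, pow_two, ← map_mul]
        have : e * e = 1 := Subtype.ext (hE e e.2)
        rw [this, map_one]
      obtain ⟨c, -, hcq⟩ := hc.syl f.range h4 (by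
        rintro _ ⟨e, rfl⟩
        have h5 : ((e : X) : X ⧸ Z) * ((x₁ ^ (o + 1) : X) : X ⧸ Z) = ((x₁ ^ (o + 1) : X) : X ⧸ Z) * ((e : X) : X ⧸ Z) := by
          rw [← QuotientGroup.mk_mul, ← QuotientGroup.mk_mul, hEx e e.2]
        rw [hx₀mk] at h5
        exact h5)
      have h6 : Function.Injective fun q : f.range => (⟨c * q * c⁻¹, hcq q q.2⟩ : D) := by
        intro q q' h
        have h7 : c * (q : X ⧸ Z) * c⁻¹ = c * q' * c⁻¹ := congrArg Subtype.val h
        exact Subtype.ext (mul_left_cancel (mul_right_cancel h7))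
      have h7 := Nat.card_le_card_of_injective _ h6
      rwa [hc.e8.card] at h7
    rw [h1]
    calc Nat.card f.range * Nat.card f.ker ≤ 8 * 2 := Nat.mul_le_mul h3 h2
      _ = 16 := by norm_num

end Lift

end Cfsg.Agent.H503.KKL
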