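import Cfsg.Agent.H503.KKL.Weights
import Cfsg.Agent.H503.KKL.Lift
import Cfsg.Agent.ClassicalGeometry.OmegaIndex
import Cfsg.Agent.LieClassical.OrthCenter
import Cfsg.Agent.LieClassical.OmegaReindex
import Cfsg.Agent.S0292

/-!
# S4546: no configuration in the orthogonal groups in odd characteristic (helper503)

`noCfg_pomega` : `NoCfg (POmega F Q)` for every nondegenerate isotropic quadratic form in dimension at least 3, odd
characteristic. `E_omega_odd`, `E_omega_plus`, `E_omega_minus`.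
-/

set_option autoImplicit false
set_option linter.unusedSectionVars false

namespace Cfsg.Agent.H503.KKL

open Cfsg Matrix QuadraticMap Cfsg.Agent.H613.KKL Cfsg.Agent.ClassicalGeometry.Reflection
open Cfsg.Agent.LieClassical.OrthCenter

section Iso

variable {ι : Type} [Fintype ι] [DecidableEq ι] {F : Type*} [Field F] (Q : QuadraticForm F (ι → F))

/-- self-adjoint matrices -/
def SA (M : Matrix ι ι F) : Prop := ∀ v w, polar Q (M *ᵥ v) w = polar Q v (M *ᵥ w)

theorem SA.smul {M : Matrix ι ι F} (h : SA Q M) (c : F) : SA Q (c • M) := by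
  intro v w
  rw [Matrix.smul_mulVec, Matrix.smul_mulVec, polar_smul_left, polar_smul_right, h]

theorem SA.add {M N : Matrix ι ι F} (h : SA Q M) (h' : SA Q N) : SA Q (M + N) := by
  intro v w
  rw [Matrix.add_mulVec, Matrix.add_mulVec, polar_add_left, polar_add_right, h, h']

theorem SA.zero : SA Q (0 : Matrix ι ι F) := by
  intro v w
  rw [Matrix.zero_mulVec, Matrix.zero_mulVec, polar_zero_left, polar_zero_right]

theorem SA.sum {α : Type*} (s : Finset α) (f : α → Matrix ι ι F) (h : ∀ a ∈ s, SA Q (f a)) : SA Q (∑ a ∈ s, f a) := by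
  classical
  induction s using Finset.induction_on with
  | empty => rw [Finset.sum_empty]; exact SA.zero Q
  | insert a s ha ih =>
    rw [Finset.sum_insert ha]
    exact SA.add Q (h a (Finset.mem_insert_self _ _)) (ih fun b hb => h b (Finset.mem_insert_of_mem hb))

theorem SA.isom {M : Matrix ι ι F} (h2 : (2 : F) ≠ 0) (h : SA Q M) (hM : M * M = 1) (v : ι → F) : Q (M *ᵥ v) = Q v := by
  have h1 : polar Q (M *ᵥ v) (M *ᵥ v) = polar Q v v := by
    rw [h, Matrix.mulVec_mulVec, hM, Matrix.one_mulVec]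
  rw [QuadraticMap.polar_self, QuadraticMap.polar_self, two_nsmul, two_nsmul, ← two_mul, ← two_mul] at h1
  exact mul_left_cancel₀ h2 h1

theorem SA.of_iso {g : Cfsg.isometryGroup F (⇑Q)} (hg : g * g = 1) : SA Q (g.1.1 : Matrix ι ι F) := by
  intro v w
  have h1 : polar Q (act Q g v) (act Q g (act Q g w)) = polar Q v (act Q g w) := polar_act g _ _
  rw [← act_mul, hg, act_one] at h1
  exact h1

end Iso

section Row

variable {ι : Type} [Fintype ι] [DecidableEq ι] {F : Type*} [Field F] [Finite F]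

theorem noCfg_pomega (h2 : (2 : F) ≠ 0) (Q : QuadraticForm F (ι → F)) (hQ : (polarBilin Q).Nondegenerate)
    (hn : 3 ≤ Fintype.card ι) (hs : ∃ u : ι → F, u ≠ 0 ∧ Q u = 0) : NoCfg (Cfsg.POmega F (⇑Q)) := by
  classical
  intro D x hc
  -- the centre
  obtain ⟨z₀, hz⟩ : ∃ z₀ : Cfsg.Omega F (⇑Q), ∀ z ∈ Subgroup.center (Cfsg.Omega F (⇑Q)), z = 1 ∨ z = z₀ := by
    have hext : ∀ z z' : Cfsg.Omega F (⇑Q), (z.1.1.1 : Matrix ι ι F) = z'.1.1.1 → z = z' := fun z z' h =>
      Subtype.ext (Subtype.ext (Units.ext h))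
    by_cases h : ∃ z : Cfsg.Omega F (⇑Q), (z.1.1.1 : Matrix ι ι F) = -1
    · obtain ⟨z₀, hz₀⟩ := h
      refine ⟨z₀, fun z hzz => ?_⟩
      rcases (mem_center_omega_iff hQ hn hs z).1 hzz with h1 | h1
      · exact Or.inl (hext _ _ h1)
      · exact Or.inr (hext _ _ (h1.trans hz₀.symm))
    · refine ⟨1, fun z hzz => ?_⟩
      rcases (mem_center_omega_iff hQ hn hs z).1 hzz with h1 | h1
      · exact Or.inl (hext _ _ h1)
      · exact absurd ⟨z, h1⟩ h
  obtain ⟨D₀, x₀, y, m, hmem, hsq, hcomm, -, hx₀, hy, hy7, ⟨d₁, hd₁, hd₁'⟩, hE⟩ := lift le_rfl z₀ hz hc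
  -- the commutative group
  letI : CommGroup D₀ := { (inferInstance : Group D₀) with mul_comm := fun a b => Subtype.ext (hcomm a a.2 b b.2) }
  have hfD : Fintype D₀ := Fintype.ofFinite _
  have hfX : Fintype (D₀ →* Fˣ) := Fintype.ofFinite _
  let ρ : D₀ →* Matrix ι ι F :=
    (Units.coeHom _).comp ((Cfsg.isometryGroup F (⇑Q)).subtype.comp ((Cfsg.Omega F (⇑Q)).subtype.comp D₀.subtype))
  have hρ : ∀ c : D₀, ρ c = ((c : Cfsg.Omega F (⇑Q)).1.1.1 : Matrix ι ι F) := fun c => rfl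
  have hρi : Function.Injective ρ := by
    intro c c' h
    exact Subtype.ext (Subtype.ext (Subtype.ext (Units.ext h)))
  have hC : ∀ c : D₀, c * c = 1 := fun c => Subtype.ext (hsq c c.2)
  have hcard : (Fintype.card D₀ : F) ≠ 0 := by
    have h1 : IsPGroup 2 D₀ := fun c => ⟨1, by rw [pow_one, pow_two]; exact hC c⟩
    have : Fact (Nat.Prime 2) := ⟨Nat.prime_two⟩
    obtain ⟨k, hk⟩ := h1.exists_card_eq
    rw [← Nat.card_eq_fintype_card, hk]
    push_cast
    exact pow_ne_zero _ h2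
  let τ : D₀ ≃* D₀ :=
    { toFun := fun d => ⟨y * d * y⁻¹, (hy d).2 d.2⟩
      invFun := fun d => ⟨y⁻¹ * d * y, (hy _).1 (by
        have e : y * (y⁻¹ * (d : Cfsg.Omega F (⇑Q)) * y) * y⁻¹ = d := by group
        rw [e]; exact d.2)⟩
      left_inv := fun d => Subtype.ext (by show y⁻¹ * (y * d * y⁻¹) * y = d; group)
      right_inv := fun d => Subtype.ext (by show y * (y⁻¹ * d * y) * y⁻¹ = d; group)
      map_mul' := fun d e => Subtype.ext (by show y * (d * e) * y⁻¹ = (y * d * y⁻¹) * (y * e * y⁻¹); group) }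
  have hτ : ∀ d : D₀, ((τ d : D₀) : Cfsg.Omega F (⇑Q)) = y * d * y⁻¹ := fun d => rfl
  have hτk : ∀ (k : ℕ) (d : D₀), (((τ ^ k) d : D₀) : Cfsg.Omega F (⇑Q)) = y ^ k * d * (y ^ k)⁻¹ := by
    intro k
    induction k with
    | zero => intro d; simp
    | succ k ih =>
      intro d
      rw [pow_succ' τ, MulAut.mul_apply, hτ, ih, pow_succ']
      group
  have h7 : 7 ≤ Nat.card {χ : D₀ →* Fˣ // idem ρ χ ≠ 0} := by
    refine seven_le ρ h2 hρi hC hcard τ y.1.1 ?_ m ?_ ⟨⟨d₁, hd₁⟩, fun h => hd₁' (congrArg Subtype.val h)⟩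
    · intro c
      have h1 : y * c = (τ c : D₀) * y := by rw [hτ, inv_mul_cancel_right]
      have h3 := congrArg (fun g : Cfsg.Omega F (⇑Q) => (g.1.1.1 : Matrix ι ι F)) h1
      exact h3
    · intro c
      apply Subtype.ext
      rw [hτk]
      have h1 := (Subgroup.mem_center_iff.1 hy7) (c : Cfsg.Omega F (⇑Q))
      rw [← h1, mul_inv_cancel_right]
  -- the sign changes
  have hS : ∀ ε, (sg ρ hC hcard h2).toHomUnits ε ∈ Cfsg.isometryGroup F (⇑Q) := by
    intro ε
    rw [mem_isometryGroup_iff]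
    intro v
    refine SA.isom Q h2 (M := sg ρ hC hcard h2 ε) ?_ (sg_sq ρ hC hcard h2 ε) v
    rw [sg_apply]
    refine SA.sum Q _ _ fun χ _ => SA.smul Q ?_ _
    unfold idem
    refine SA.smul Q (SA.sum Q _ _ fun c _ => SA.smul Q ?_ _) _
    refine SA.of_iso Q (g := (c : Cfsg.Omega F (⇑Q)).1) ?_
    exact congrArg Subtype.val (congrArg Subtype.val (hC c))
  let S : ((D₀ →* Fˣ) → ℤˣ) →* Cfsg.isometryGroup F (⇑Q) :=
    (sg ρ hC hcard h2).toHomUnits.codRestrict (Cfsg.isometryGroup F (⇑Q)) hS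
  have hSv : ∀ ε, ((S ε).1.1 : Matrix ι ι F) = sg ρ hC hcard h2 ε := fun ε => rfl
  -- lower bound
  have hlow : 2 ^ 7 ≤ Nat.card S.range := by
    let ext : ({χ : D₀ →* Fˣ // idem ρ χ ≠ 0} → ℤˣ) → ((D₀ →* Fˣ) → ℤˣ) := fun ε χ =>
      if h : idem ρ χ ≠ 0 then ε ⟨χ, h⟩ else 1
    have hinj : Function.Injective fun ε => (⟨S (ext ε), ext ε, rfl⟩ : S.range) := by
      intro ε ε' h
      have h1 : S (ext ε) = S (ext ε') := congrArg Subtype.val h
      have h3 : sg ρ hC hcard h2 (ext ε) = sg ρ hC hcard h2 (ext ε') := by rw [← hSv, ← hSv, h1]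
      funext χ
      have h4 := sg_inj ρ hC hcard h2 h3 χ.1 χ.2
      simp only [ext, dif_pos χ.2] at h4
      exact h4
    have h1 := Nat.card_le_card_of_injective _ hinj
    have h3 : Nat.card ({χ : D₀ →* Fˣ // idem ρ χ ≠ 0} → ℤˣ) = 2 ^ Nat.card {χ : D₀ →* Fˣ // idem ρ χ ≠ 0} := by
      rw [Nat.card_fun, Nat.card_eq_fintype_card (α := ℤˣ)]
      rfl
    rw [h3] at h1
    exact (Nat.pow_le_pow_right (by norm_num) h7).trans h1
  -- the part in `Ω`
  have hE16 := hE (S.range.subgroupOf (Cfsg.Omega F (⇑Q))) (by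
    rintro e ⟨ε, hε⟩
    apply Subtype.ext
    have h1 : (e : Cfsg.isometryGroup F (⇑Q)) = S ε := hε.symm
    show (e : Cfsg.isometryGroup F (⇑Q)) * e = 1
    rw [h1, ← map_mul]
    have : ε * ε = 1 := by
      ext χ
      simp
    rw [this, map_one]) (by
    rintro e ⟨ε, hε⟩
    apply Subtype.ext
    apply Subtype.ext
    apply Units.ext
    have h1 : (e : Cfsg.isometryGroup F (⇑Q)) = S ε := hε.symm
    show (e.1.1.1 : Matrix ι ι F) * x₀.1.1.1 = x₀.1.1.1 * e.1.1.1
    rw [h1, hSv]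
    refine sg_comm ρ hC hcard h2 ε ?_
    intro c
    exact congrArg (fun g : Cfsg.Omega F (⇑Q) => (g.1.1.1 : Matrix ι ι F)) (hx₀ c c.2))
  have hidx : ((Cfsg.Omega F (⇑Q)).subgroupOf S.range).index ≤ 4 := by
    have h1 : (Cfsg.Omega F (⇑Q)).relIndex S.range ∣ (Cfsg.Omega F (⇑Q)).index := Subgroup.relIndex_dvd_index_of_normal _ _
    rw [Cfsg.Agent.ClassicalGeometry.OmegaIndex.index_Omega h2 (by omega) Q hQ] at h1
    exact Nat.le_of_dvd (by norm_num) h1
  have hcard2 := Subgroup.card_mul_index ((Cfsg.Omega F (⇑Q)).subgroupOf S.range)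
  have hcmp : Nat.card ((Cfsg.Omega F (⇑Q)).subgroupOf S.range) ≤ Nat.card (S.range.subgroupOf (Cfsg.Omega F (⇑Q))) := by
    refine Nat.card_le_card_of_injective
      (fun g => (⟨⟨g.1.1, g.2⟩, g.1.2⟩ : S.range.subgroupOf (Cfsg.Omega F (⇑Q)))) ?_
    intro g g' h
    have h1 : g.1.1 = g'.1.1 := congrArg (fun u => (u.1.1 : Cfsg.isometryGroup F (⇑Q))) h
    exact Subtype.ext (Subtype.ext h1)
  have : Nat.card S.range ≤ 16 * 4 := by
    rw [← hcard2]
    exact Nat.mul_le_mul (hcmp.trans hE16) hidx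
  omega

end Row

section Families

variable {F : Type} [Field F] [Fintype F] {p : ℕ} [Fact p.Prime] [CharP F p] (hp : p ≠ 2)

include hp in
theorem two_ne : (2 : F) ≠ 0 := by
  intro h
  have h1 : p ∣ 2 := (CharP.cast_eq_zero_iff F p 2).1 (by exact_mod_cast h)
  exact hp ((Nat.prime_dvd_prime_iff_eq (Fact.out : p.Prime) Nat.prime_two).1 h1)

include hp

theorem E_omega_odd (m : ℕ) (hm : 3 ≤ m) : NoCfg (POmega F (quadFormOdd m F)) := by
  rw [← Cfsg.Agent.LieClassical.QuadForms.coe_oddForm]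
  exact noCfg_pomega (two_ne hp) _ (Cfsg.Agent.S0292.oddForm_nondegenerate (two_ne hp) m) (by simp; omega)
    (Cfsg.Agent.S0292.exists_singular (by omega))

theorem E_omega_plus (m : ℕ) (hm : 4 ≤ m) : NoCfg (POmega F (quadFormPlus m F)) := by
  rw [← Cfsg.Agent.LieClassical.OmegaReindex.coe_quadPlus]
  exact noCfg_pomega (two_ne hp) _ Cfsg.Agent.LieClassical.OmegaReindex.quadPlus_nondegenerate (by simp; omega)
    (Cfsg.Agent.LieClassical.OmegaReindex.quadPlus_isotropic (by omega))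

theorem E_omega_minus (m : ℕ) (a b : F) (hm : 4 ≤ m)
    (hab : ∀ z₁ z₂ : F, z₁ ^ 2 + a * z₁ * z₂ + b * z₂ ^ 2 = 0 → z₁ = 0 ∧ z₂ = 0) :
    NoCfg (POmega F (quadFormMinus (m - 1) F a b)) := by
  rw [← Cfsg.Agent.LieClassical.OmegaReindex.coe_quadMinus]
  exact noCfg_pomega (two_ne hp) _ (Cfsg.Agent.LieClassical.OmegaReindex.quadMinus_nondegenerate hab) (by simp; omega)
    (Cfsg.Agent.LieClassical.OmegaReindex.quadMinus_isotropic (by omega) a b)

end Families

end Cfsg.Agent.H503.KKL
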