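import Mathlib

/-!
# S4546, classical groups in odd characteristic: sign changes on weight spaces (helper503)

`C` a finite elementary abelian 2-group, `ρ : C →* A` (`A` an algebra over a finite field of odd characteristic).
* `idem ρ χ` : the idempotent of the character `χ`; `rho_idem`, `idem_mul`, `sum_idem`;
* `sg ρ : ((C →* Fˣ) → ℤˣ) →* A` : the sign changes; `sg_idem`;
* `card_range_ge` : the sign changes form a group of order at least `2 ^ |Λ|`, `Λ` the set of the weights;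
* `seven_le` : an element `Y` normalising `ρ(C)` and inducing an automorphism of order a nontrivial power of 7:
  there are at least 7 weights.
-/

set_option autoImplicit false

namespace Cfsg.Agent.H503.KKL

section Idem

variable {F : Type*} [Field F] {A : Type*} [Ring A] [Algebra F A]
  {C : Type*} [CommGroup C] [Fintype C] (ρ : C →* A)

/-- the idempotent of the character `χ` -/
noncomputable def idem (χ : C →* Fˣ) : A := (Fintype.card C : F)⁻¹ • ∑ c : C, ((χ c : Fˣ) : F) • ρ c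

variable (hC : ∀ c : C, c * c = 1)

include hC in
theorem chi_sq (χ : C →* Fˣ) (c : C) : ((χ c : Fˣ) : F) * ((χ c : Fˣ) : F) = 1 := by
  rw [← Units.val_mul, ← map_mul, hC, map_one, Units.val_one]

include hC in
theorem rho_idem (χ : C →* Fˣ) (c : C) : ρ c * idem ρ χ = ((χ c : Fˣ) : F) • idem ρ χ := by
  unfold idem
  rw [mul_smul_comm, smul_comm]
  congr 1
  rw [Finset.mul_sum, Finset.smul_sum]
  refine Fintype.sum_equiv (Equiv.mulLeft c) _ _ fun d => ?_
  have e1 : ((χ c : Fˣ) : F) * ((χ (c * d) : Fˣ) : F) = ((χ d : Fˣ) : F) := by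
    rw [map_mul, Units.val_mul, ← mul_assoc, chi_sq hC, one_mul]
  show ρ c * (((χ d : Fˣ) : F) • ρ d) = ((χ c : Fˣ) : F) • (((χ (c * d) : Fˣ) : F) • ρ (c * d))
  rw [mul_smul_comm, ← map_mul, smul_smul, e1]

variable (hn : (Fintype.card C : F) ≠ 0)

include hC hn in
theorem idem_mul [DecidableEq (C →* Fˣ)] (χ ψ : C →* Fˣ) :
    idem ρ χ * idem ρ ψ = if χ = ψ then idem ρ χ else 0 := by
  classical
  have e1 : idem ρ χ * idem ρ ψ = ((Fintype.card C : F)⁻¹ * ∑ c : C, ((χ c : Fˣ) : F) * ((ψ c : Fˣ) : F)) •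
      idem ρ ψ := by
    conv_lhs => rw [idem]
    rw [smul_mul_assoc, Finset.sum_mul, mul_smul, Finset.sum_smul]
    congr 1
    refine Finset.sum_congr rfl fun c _ => ?_
    rw [smul_mul_assoc, rho_idem ρ hC, smul_smul]
  have e2 := sum_hom_units ((Units.coeHom F).comp (χ * ψ))
  have e3 : ∑ c : C, ((Units.coeHom F).comp (χ * ψ)) c = ∑ c : C, ((χ c : Fˣ) : F) * ((ψ c : Fˣ) : F) := rfl
  rw [e3] at e2
  rw [e1, e2]
  by_cases h : χ = ψ
  · subst h
    have h1 : (Units.coeHom F).comp (χ * χ) = 1 := by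
      ext c
      exact chi_sq hC χ c
    rw [if_pos h1, if_pos rfl, inv_mul_cancel₀ hn, one_smul]
  · have h1 : (Units.coeHom F).comp (χ * ψ) ≠ 1 := by
      intro h1
      apply h
      ext c
      have h2 : ((χ c : Fˣ) : F) * ((ψ c : Fˣ) : F) = 1 := DFunLike.congr_fun h1 c
      have h3 := chi_sq hC ψ c
      have h4 : ((ψ c : Fˣ) : F) ≠ 0 := (ψ c).ne_zero
      exact mul_right_cancel₀ h4 (h2.trans h3.symm)
    rw [if_neg h1, if_neg h, Nat.cast_zero, mul_zero, zero_smul]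

include hC in
theorem hasRoots (h2 : (2 : F) ≠ 0) : HasEnoughRootsOfUnity F (Monoid.exponent C) := by
  have h1 : Monoid.exponent C ∣ 2 := by
    rw [Monoid.exponent_dvd_iff_forall_pow_eq_one]
    intro c
    rw [pow_two, hC]
  have h3 : HasEnoughRootsOfUnity F 2 := by
    refine ⟨⟨-1, ?_⟩, inferInstance⟩
    obtain ⟨p, hp⟩ := CharP.exists F
    refine IsPrimitiveRoot.neg_one p ?_
    rintro rfl
    apply h2
    exact_mod_cast CharP.cast_eq_zero F 2
  exact HasEnoughRootsOfUnity.of_dvd F h1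

include hC hn in
theorem sum_idem [Fintype (C →* Fˣ)] (h2 : (2 : F) ≠ 0) : ∑ χ : C →* Fˣ, idem ρ χ = 1 := by
  classical
  have hR := hasRoots hC h2
  have e1 : ∑ χ : C →* Fˣ, idem ρ χ = (Fintype.card C : F)⁻¹ • ∑ c : C, (∑ χ : C →* Fˣ, ((χ c : Fˣ) : F)) • ρ c := by
    unfold idem
    rw [← Finset.smul_sum, Finset.sum_comm]
    congr 1
    refine Finset.sum_congr rfl fun c _ => ?_
    rw [Finset.sum_smul]
  have e2 : ∀ c : C, c ≠ 1 → ∑ χ : C →* Fˣ, ((χ c : Fˣ) : F) = 0 := by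
    intro c hc
    refine sum_hom_units_eq_zero ((Units.coeHom F).comp (MonoidHom.eval c)) ?_
    intro h
    obtain ⟨χ, hχ⟩ := CommGroup.exists_apply_ne_one_of_hasEnoughRootsOfUnity C F hc
    apply hχ
    have h3 : ((χ c : Fˣ) : F) = 1 := DFunLike.congr_fun h χ
    exact Units.ext h3
  rw [e1, Finset.sum_eq_single (1 : C)]
  · have e3 : ∑ χ : C →* Fˣ, ((χ (1 : C) : Fˣ) : F) = (Fintype.card C : F) := by
      simp only [map_one, Units.val_one, Finset.sum_const, Finset.card_univ, nsmul_eq_mul, mul_one]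
      have h4 := CommGroup.card_monoidHom_of_hasEnoughRootsOfUnity C F
      rw [Nat.card_eq_fintype_card, Nat.card_eq_fintype_card] at h4
      rw [h4]
    rw [e3, map_one, smul_smul, inv_mul_cancel₀ hn, one_smul]
  · intro c _ hc
    rw [e2 c hc, zero_smul]
  · intro h
    exact absurd (Finset.mem_univ _) h

/-- the value in `F` of a sign -/
def sv (F : Type*) [Field F] (e : ℤˣ) : F := ((e : ℤ) : F)

theorem sv_mul (e e' : ℤˣ) : sv F (e * e') = sv F e * sv F e' := by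
  unfold sv
  push_cast
  rfl

theorem sv_one : sv F 1 = 1 := by
  unfold sv
  simp

theorem sv_inj (h2 : (2 : F) ≠ 0) {e e' : ℤˣ} (h : sv F e = sv F e') : e = e' := by
  have h1 : (1 : F) ≠ -1 := by
    intro h1
    apply h2
    have : (2 : F) = 1 - -1 := by norm_num
    rw [this, ← h1, sub_self]
  rcases Int.units_eq_one_or e with rfl | rfl <;> rcases Int.units_eq_one_or e' with rfl | rfl
  · rfl
  · exfalso
    apply h1
    simpa [sv] using h
  · exfalso
    apply h1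
    simpa [sv] using h.symm
  · rfl

section Sg

variable [Fintype (C →* Fˣ)]

include hC hn in
theorem sg_mul (ε ε' : (C →* Fˣ) → ℤˣ) :
    (∑ χ : C →* Fˣ, sv F (ε χ) • idem ρ χ) * (∑ χ : C →* Fˣ, sv F (ε' χ) • idem ρ χ) =
      ∑ χ : C →* Fˣ, sv F ((ε * ε') χ) • idem ρ χ := by
  classical
  rw [Finset.sum_mul]
  refine Finset.sum_congr rfl fun χ _ => ?_
  rw [Finset.mul_sum, Finset.sum_eq_single χ]
  · rw [smul_mul_smul_comm, idem_mul ρ hC hn, if_pos rfl, Pi.mul_apply, sv_mul]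
  · intro ψ _ h
    rw [smul_mul_smul_comm, idem_mul ρ hC hn, if_neg (Ne.symm h), smul_zero]
  · intro h
    exact absurd (Finset.mem_univ _) h

/-- the sign changes -/
noncomputable def sg (h2 : (2 : F) ≠ 0) : ((C →* Fˣ) → ℤˣ) →* A where
  toFun ε := ∑ χ : C →* Fˣ, sv F (ε χ) • idem ρ χ
  map_one' := by
    simp only [Pi.one_apply, sv_one, one_smul]
    exact sum_idem ρ hC hn h2
  map_mul' ε ε' := (sg_mul ρ hC hn ε ε').symm

theorem sg_apply (h2 : (2 : F) ≠ 0) (ε : (C →* Fˣ) → ℤˣ) :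
    sg ρ hC hn h2 ε = ∑ χ : C →* Fˣ, sv F (ε χ) • idem ρ χ := rfl

theorem sg_idem (h2 : (2 : F) ≠ 0) (ε : (C →* Fˣ) → ℤˣ) (χ : C →* Fˣ) :
    sg ρ hC hn h2 ε * idem ρ χ = sv F (ε χ) • idem ρ χ := by
  classical
  rw [sg_apply, Finset.sum_mul, Finset.sum_eq_single χ]
  · rw [smul_mul_assoc, idem_mul ρ hC hn, if_pos rfl]
  · intro ψ _ h
    rw [smul_mul_assoc, idem_mul ρ hC hn, if_neg h, smul_zero]
  · intro h
    exact absurd (Finset.mem_univ _) h

/-- a sign change which is the identity is trivial at the weights -/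
theorem sg_inj (h2 : (2 : F) ≠ 0) {ε ε' : (C →* Fˣ) → ℤˣ} (h : sg ρ hC hn h2 ε = sg ρ hC hn h2 ε') (χ : C →* Fˣ)
    (hχ : idem ρ χ ≠ 0) : ε χ = ε' χ := by
  apply sv_inj h2
  have h1 := sg_idem ρ hC hn h2 ε χ
  rw [h, sg_idem] at h1
  have h3 : (sv F (ε' χ) - sv F (ε χ)) • idem ρ χ = 0 := by rw [sub_smul, h1, sub_self]
  rcases smul_eq_zero.1 h3 with h4 | h4
  · exact (sub_eq_zero.1 h4).symm
  · exact absurd h4 hχ

/-- a sign change commutes with everything that commutes with `ρ(C)` -/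
theorem sg_comm (h2 : (2 : F) ≠ 0) (ε : (C →* Fˣ) → ℤˣ) {x : A} (hx : ∀ c, ρ c * x = x * ρ c) :
    sg ρ hC hn h2 ε * x = x * sg ρ hC hn h2 ε := by
  rw [sg_apply, Finset.sum_mul, Finset.mul_sum]
  refine Finset.sum_congr rfl fun χ _ => ?_
  rw [smul_mul_assoc, mul_smul_comm]
  congr 1
  unfold idem
  rw [smul_mul_assoc, mul_smul_comm, Finset.sum_mul, Finset.mul_sum]
  congr 1
  refine Finset.sum_congr rfl fun c _ => ?_
  rw [smul_mul_assoc, mul_smul_comm, hx]

theorem sg_sq (h2 : (2 : F) ≠ 0) (ε : (C →* Fˣ) → ℤˣ) : sg ρ hC hn h2 ε * sg ρ hC hn h2 ε = 1 := by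
  rw [← map_mul]
  have : ε * ε = 1 := by
    ext χ
    simp
  rw [this, map_one]

end Sg

/-- The number of weights is at least 7. -/
theorem seven_le [Finite (C →* Fˣ)] (h2 : (2 : F) ≠ 0) (hρ : Function.Injective ρ) (hC : ∀ c : C, c * c = 1)
    (hn : (Fintype.card C : F) ≠ 0) (τ : C ≃* C) (Y : Aˣ)
    (hY : ∀ c, (Y : A) * ρ c = ρ (τ c) * (Y : A)) (m : ℕ) (hm : ∀ c, (τ ^ (7 ^ m)) c = c) (hne : ∃ c, τ c ≠ c) :
    7 ≤ Nat.card {χ : C →* Fˣ // idem ρ χ ≠ 0} := by
  classical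
  have : Fintype (C →* Fˣ) := Fintype.ofFinite _
  let T : (C →* Fˣ) → (C →* Fˣ) := fun χ => χ.comp τ.toMonoidHom
  have hT : ∀ χ, (Y : A) * idem ρ (T χ) = idem ρ χ * (Y : A) := by
    intro χ
    unfold idem
    rw [mul_smul_comm, smul_mul_assoc]
    congr 1
    rw [Finset.mul_sum, Finset.sum_mul]
    refine Fintype.sum_equiv τ.toEquiv _ _ fun c => ?_
    rw [mul_smul_comm, smul_mul_assoc, hY]
    rfl
  have hTL : ∀ χ, idem ρ χ ≠ 0 → idem ρ (T χ) ≠ 0 := by
    intro χ hχ h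
    apply hχ
    have h1 := hT χ
    rw [h, mul_zero] at h1
    have h3 : idem ρ χ * (Y : A) * ((Y⁻¹ : Aˣ) : A) = 0 := by rw [← h1, zero_mul]
    rwa [mul_assoc, Units.mul_inv, mul_one] at h3
  have hTi : ∀ (k : ℕ) (χ : C →* Fˣ) (c : C), (T^[k] χ) c = χ ((τ ^ k) c) := by
    intro k
    induction k with
    | zero => intro χ c; simp
    | succ k ih =>
      intro χ c
      rw [Function.iterate_succ_apply, ih]
      show χ (τ ((τ ^ k) c)) = χ ((τ ^ (k + 1)) c)
      rw [pow_succ']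
      rfl
  have hTper : ∀ χ, T^[7 ^ m] χ = χ := by
    intro χ
    ext c
    rw [hTi, hm]
  -- a moved weight
  obtain ⟨χ, hχ, hmv⟩ : ∃ χ, idem ρ χ ≠ 0 ∧ T χ ≠ χ := by
    by_contra hcon
    push Not at hcon
    obtain ⟨c, hc⟩ := hne
    apply hc
    apply hρ
    have e : ∀ d, ρ d = ∑ χ : C →* Fˣ, ((χ d : Fˣ) : F) • idem ρ χ := by
      intro d
      calc ρ d = ρ d * ∑ χ : C →* Fˣ, idem ρ χ := by rw [sum_idem ρ hC hn h2, mul_one]
        _ = _ := by
          rw [Finset.mul_sum]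
          exact Finset.sum_congr rfl fun χ _ => rho_idem ρ hC χ d
    rw [e, e]
    refine Finset.sum_congr rfl fun χ _ => ?_
    by_cases h : idem ρ χ = 0
    · rw [h, smul_zero, smul_zero]
    · have h1 := DFunLike.congr_fun (hcon χ h) c
      have h3 : χ (τ c) = χ c := h1
      rw [h3]
  have hd : Function.minimalPeriod T χ ∣ 7 ^ m := Function.IsPeriodicPt.minimalPeriod_dvd (hTper χ)
  have h1 : Function.minimalPeriod T χ ≠ 1 := by
    rw [Ne, Function.minimalPeriod_eq_one_iff_isFixedPt]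
    exact hmv
  obtain ⟨j, hj, hj'⟩ := (Nat.dvd_prime_pow (by norm_num)).1 hd
  have h7 : 7 ≤ Function.minimalPeriod T χ := by
    rw [hj'] at h1 ⊢
    have : j ≠ 0 := by
      rintro rfl
      exact h1 (pow_zero 7)
    calc 7 = 7 ^ 1 := (pow_one 7).symm
      _ ≤ 7 ^ j := Nat.pow_le_pow_right (by norm_num) (by omega)
  have hL : ∀ k, idem ρ (T^[k] χ) ≠ 0 := by
    intro k
    induction k with
    | zero => exact hχ
    | succ k ih =>
      rw [Function.iterate_succ_apply']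
      exact hTL _ ih
  have hinj : Function.Injective fun k : Fin 7 => (⟨T^[k] χ, hL k⟩ : {χ : C →* Fˣ // idem ρ χ ≠ 0}) := by
    intro a b hab
    have h3 : T^[a] χ = T^[b] χ := congrArg Subtype.val hab
    have h4 := Function.iterate_injOn_Iio_minimalPeriod (f := T) (x := χ)
      (Set.mem_Iio.2 (lt_of_lt_of_le a.2 h7)) (Set.mem_Iio.2 (lt_of_lt_of_le b.2 h7)) h3
    exact Fin.ext h4
  have h5 := Nat.card_le_card_of_injective _ hinj
  rwa [Nat.card_eq_fintype_card, Fintype.card_fin] at h5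

end Idem

end Cfsg.Agent.H503.KKL
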